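import Mathlib

/-!
# Exactness of complexes of flat modules can be tested on residue fields

For a Noetherian ring `R` and a sequence of flat modules `Q (i+1) → Q i` with zero composites,
if `L ⊗ Q` is exact at every positive spot for every residue field `L`, then it is so for every
module `L`.
-/

universe u

open TensorProduct

namespace GrothLib.FibreExact19

variable {R : Type u} [CommRing R] {Q : ℕ → Type u} [∀ i, AddCommGroup (Q i)]
  [∀ i, Module R (Q i)] (d : ∀ i, Q (i + 1) →ₗ[R] Q i)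

/-- `L ⊗ Q` is exact at every positive spot. -/
def ExAt (L : Type u) [AddCommGroup L] [Module R L] : Prop :=
  ∀ i, Function.Exact ((d (i + 1)).lTensor L) ((d i).lTensor L)

variable {d}

theorem lTensor_zero (hdd : ∀ i, d i ∘ₗ d (i + 1) = 0) (L : Type u) [AddCommGroup L] [Module R L]
    (i : ℕ) (w : L ⊗[R] Q (i + 1 + 1)) : (d i).lTensor L ((d (i + 1)).lTensor L w) = 0 := by
  rw [← LinearMap.lTensor_comp_apply, hdd i, LinearMap.lTensor_zero, LinearMap.zero_apply]

theorem comm_rTensor {L L' : Type u} [AddCommGroup L] [Module R L] [AddCommGroup L'] [Module R L']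
    (f : L →ₗ[R] L') (i : ℕ) (z : L ⊗[R] Q (i + 1)) :
    (d i).lTensor L' (f.rTensor (Q (i + 1)) z) = f.rTensor (Q i) ((d i).lTensor L z) := by
  rw [← LinearMap.comp_apply, LinearMap.lTensor_comp_rTensor, ← LinearMap.rTensor_comp_lTensor]
  rfl

theorem exAt_of_subsingleton (L : Type u) [AddCommGroup L] [Module R L] [Subsingleton L] :
    ExAt d L := fun i z => by
  have h : ∀ (j : ℕ) (x : L ⊗[R] Q j), x = 0 := fun j x => by
    induction x using TensorProduct.induction_on with
    | zero => rfl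
    | tmul a b => rw [Subsingleton.elim a 0, zero_tmul]
    | add a b ha hb => rw [ha, hb, add_zero]
  exact ⟨fun _ => ⟨0, (h _ _).trans (h _ z).symm⟩, fun _ => h _ _⟩

variable [∀ i, Module.Flat R (Q i)]

theorem exAt_of_exact (hdd : ∀ i, d i ∘ₗ d (i + 1) = 0) {L₁ L₂ L₃ : Type u} [AddCommGroup L₁]
    [Module R L₁] [AddCommGroup L₂] [Module R L₂] [AddCommGroup L₃] [Module R L₃]
    (f : L₁ →ₗ[R] L₂) (g : L₂ →ₗ[R] L₃) (hf : Function.Injective f) (hg : Function.Surjective g)
    (hfg : Function.Exact f g) (h₁ : ExAt d L₁) (h₃ : ExAt d L₃) : ExAt d L₂ := by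
  intro i z
  refine ⟨fun hz => ?_, fun ⟨w, hw⟩ => hw ▸ lTensor_zero hdd L₂ i w⟩
  obtain ⟨w₃, hw₃⟩ := (h₃ i _).1 (show (d i).lTensor L₃ (g.rTensor _ z) = 0 by
    rw [comm_rTensor, hz, map_zero])
  obtain ⟨w₂, rfl⟩ := LinearMap.rTensor_surjective _ hg w₃
  rw [comm_rTensor] at hw₃
  obtain ⟨z₁, hz₁⟩ := (rTensor_exact (Q (i + 1)) hfg hg (z - (d (i + 1)).lTensor L₂ w₂)).1
    (by rw [map_sub, hw₃, sub_self])
  have hz₁0 : (d i).lTensor L₁ z₁ = 0 := by
    refine Module.Flat.rTensor_preserves_injective_linearMap (M := Q i) f hf ?_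
    rw [map_zero, ← comm_rTensor, hz₁, map_sub, hz, lTensor_zero hdd, sub_self]
  obtain ⟨w₁, hw₁⟩ := (h₁ i _).1 hz₁0
  refine ⟨f.rTensor _ w₁ + w₂, ?_⟩
  rw [map_add, comm_rTensor, hw₁, hz₁, sub_add_cancel]

theorem exAt_congr {L L' : Type u} [AddCommGroup L] [Module R L] [AddCommGroup L'] [Module R L']
    (e : L ≃ₗ[R] L') (h : ExAt d L') : ExAt d L := by
  intro i z
  have hinj : ∀ (j : ℕ), Function.Injective (e.toLinearMap.rTensor (Q j)) := fun j =>
    Module.Flat.rTensor_preserves_injective_linearMap e.toLinearMap e.injective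
  constructor
  · intro hz
    obtain ⟨w, hw⟩ := (h i _).1 (show (d i).lTensor L' (e.toLinearMap.rTensor _ z) = 0 by
      rw [comm_rTensor, hz, map_zero])
    obtain ⟨w', rfl⟩ := LinearMap.rTensor_surjective _ e.surjective w
    rw [comm_rTensor] at hw
    exact ⟨w', hinj _ hw⟩
  · rintro ⟨w, rfl⟩
    apply hinj
    rw [map_zero, ← comm_rTensor, ← comm_rTensor]
    exact (h i _).2 ⟨_, rfl⟩

theorem exAt_quotient_prime (hdd : ∀ i, d i ∘ₗ d (i + 1) = 0) (p : Ideal R) [p.IsPrime]
    (hk : ExAt d p.ResidueField)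
    (hbig : ∀ a ∉ p, ExAt d (R ⧸ (p ⊔ Ideal.span {a}))) : ExAt d (R ⧸ p) := by
  intro i z
  refine ⟨fun hz => ?_, fun ⟨w, hw⟩ => hw ▸ lTensor_zero hdd _ i w⟩
  let g : (R ⧸ p) →ₗ[R] p.ResidueField := (IsScalarTower.toAlgHom R (R ⧸ p) p.ResidueField).toLinearMap
  have hg : Function.Injective g := IsFractionRing.injective (R ⧸ p) p.ResidueField
  have hclear : ∀ x : p.ResidueField ⊗[R] Q (i + 1 + 1), ∃ a ∉ p, ∃ x', a • x = g.rTensor _ x' := by
    intro x
    induction x using TensorProduct.induction_on with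
    | zero => exact ⟨1, p.ne_top_iff_one.1 (Ideal.IsPrime.ne_top inferInstance), 0, by simp⟩
    | tmul κ q =>
      obtain ⟨⟨b, c, hc⟩, hbc⟩ := IsLocalization.surj (nonZeroDivisors (R ⧸ p)) κ
      obtain ⟨a, rfl⟩ := Ideal.Quotient.mk_surjective c
      refine ⟨a, fun ha => nonZeroDivisors.ne_zero hc (Ideal.Quotient.eq_zero_iff_mem.2 ha), b ⊗ₜ q, ?_⟩
      rw [smul_tmul', LinearMap.rTensor_tmul, Algebra.smul_def, mul_comm,
        IsScalarTower.algebraMap_apply R (R ⧸ p) p.ResidueField]
      congr 1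
    | add x y hx hy =>
      obtain ⟨a, ha, x', hx'⟩ := hx
      obtain ⟨c, hc, y', hy'⟩ := hy
      refine ⟨a * c, fun h => ((Ideal.IsPrime.mem_or_mem inferInstance h).elim ha hc), c • x' + a • y', ?_⟩
      rw [smul_add, map_add, map_smul, map_smul, ← hx', ← hy', smul_smul, smul_smul, mul_comm c a]
  obtain ⟨w, hw⟩ := (hk i _).1 (show (d i).lTensor p.ResidueField (g.rTensor _ z) = 0 by
    rw [comm_rTensor, hz, map_zero])
  obtain ⟨a, ha, w₁, hw₁⟩ := hclear w
  have h1 : a • z = (d (i + 1)).lTensor _ w₁ := by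
    refine Module.Flat.rTensor_preserves_injective_linearMap (M := Q (i + 1)) g hg ?_
    rw [map_smul, ← comm_rTensor, ← hw₁, map_smul, hw]
  let π : (R ⧸ p) →ₗ[R] R ⧸ (p ⊔ Ideal.span {a}) :=
    (Ideal.Quotient.factorₐ R (le_sup_left : p ≤ p ⊔ Ideal.span {a})).toLinearMap
  have hπ : Function.Surjective π := Ideal.Quotient.factor_surjective le_sup_left
  let μ : (R ⧸ p) →ₗ[R] (R ⧸ p) := LinearMap.lsmul R (R ⧸ p) a
  have hμ : Function.Injective μ := by
    rw [injective_iff_map_eq_zero]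
    intro x hx
    obtain ⟨r, rfl⟩ := Ideal.Quotient.mk_surjective x
    have hx' : Ideal.Quotient.mk p (a * r) = 0 := hx
    rw [Ideal.Quotient.eq_zero_iff_mem] at hx' ⊢
    exact (Ideal.IsPrime.mem_or_mem inferInstance hx').resolve_left ha
  have hex : Function.Exact μ π := by
    intro x
    obtain ⟨r, rfl⟩ := Ideal.Quotient.mk_surjective x
    constructor
    · intro hx
      have hx' : Ideal.Quotient.mk (p ⊔ Ideal.span {a}) r = 0 := hx
      rw [Ideal.Quotient.eq_zero_iff_mem, Submodule.mem_sup] at hx'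
      obtain ⟨u, hu, v, hv, rfl⟩ := hx'
      obtain ⟨t, rfl⟩ := Ideal.mem_span_singleton.1 hv
      refine ⟨Ideal.Quotient.mk p t, ?_⟩
      rw [map_add, Ideal.Quotient.eq_zero_iff_mem.2 hu, zero_add]
      rfl
    · rintro ⟨y, hy⟩
      obtain ⟨t, rfl⟩ := Ideal.Quotient.mk_surjective y
      rw [← hy]
      show Ideal.Quotient.mk (p ⊔ Ideal.span {a}) (a * t) = 0
      rw [Ideal.Quotient.eq_zero_iff_mem]
      exact Ideal.mul_mem_right _ _ (Submodule.mem_sup_right (Ideal.mem_span_singleton_self a))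
  have hμs : ∀ (j : ℕ) (x : (R ⧸ p) ⊗[R] Q j), μ.rTensor (Q j) x = a • x := fun j x => by
    induction x using TensorProduct.induction_on with
    | zero => simp
    | tmul u v => rw [LinearMap.rTensor_tmul, smul_tmul']; rfl
    | add u v hu hv => rw [map_add, hu, hv, smul_add]
  obtain ⟨u, hu⟩ := ((hbig a ha) (i + 1) (π.rTensor _ w₁)).1 (by
    rw [comm_rTensor, ← h1, map_smul]
    show a • (π.rTensor _ z) = 0
    rw [← map_smul, ← hμs, ← LinearMap.rTensor_comp_apply, hex.linearMap_comp_eq_zero,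
      LinearMap.rTensor_zero, LinearMap.zero_apply])
  obtain ⟨u', rfl⟩ := LinearMap.rTensor_surjective _ hπ u
  rw [comm_rTensor] at hu
  obtain ⟨w', hw'⟩ := (rTensor_exact (Q (i + 1 + 1)) hex hπ (w₁ - (d (i + 1 + 1)).lTensor _ u')).1
    (by rw [map_sub, hu, sub_self])
  refine ⟨w', Module.Flat.rTensor_preserves_injective_linearMap (M := Q (i + 1)) μ hμ ?_⟩
  rw [← comm_rTensor, hw', map_sub, lTensor_zero hdd, sub_zero, hμs, h1]

/-- Exactness on residue fields implies exactness for all coefficient modules. -/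
theorem exAt_of_residueField [IsNoetherianRing R] (hdd : ∀ i, d i ∘ₗ d (i + 1) = 0)
    (hk : ∀ (p : Ideal R) [p.IsPrime], ExAt d p.ResidueField)
    (L : Type u) [AddCommGroup L] [Module R L] : ExAt d L := by
  have key : ∀ I : Ideal R, ∀ (M : Type u) [AddCommGroup M] [Module R M] [Module.Finite R M],
      I ≤ Module.annihilator R M → ExAt d M := by
    intro I
    induction I using IsNoetherian.induction with
    | hgt I ih =>
      intro M _ _ hMfin
      induction ‹Module.Finite R M› using IsNoetherianRing.induction_on_isQuotientEquivQuotientPrime with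
      | subsingleton N => exact fun _ => exAt_of_subsingleton N
      | quotient N q e =>
        intro hI
        have hIq : I ≤ q.asIdeal := by
          refine hI.trans ?_
          rw [e.annihilator_eq, Ideal.annihilator_quotient]
        refine exAt_congr e ?_
        by_cases hlt : I < q.asIdeal
        · exact ih _ hlt (R ⧸ q.asIdeal) (by rw [Ideal.annihilator_quotient])
        · refine exAt_quotient_prime hdd q.asIdeal (hk q.asIdeal) fun a ha => ?_
          refine ih (q.asIdeal ⊔ Ideal.span {a}) (lt_of_le_of_lt hIq ?_) _ (by rw [Ideal.annihilator_quotient])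
          exact left_lt_sup.2 fun h => ha (h (Ideal.mem_span_singleton_self a))
      | exact N₁ N₂ N₃ f g hf hg hfg h₁ h₃ =>
        intro hI
        exact exAt_of_exact hdd f g hf hg hfg (h₁ (hI.trans (f.annihilator_le_of_injective hf)))
          (h₃ (hI.trans (g.annihilator_le_of_surjective hg)))
  intro i z
  refine ⟨fun hz => ?_, fun ⟨w, hw⟩ => hw ▸ lTensor_zero hdd L i w⟩
  obtain ⟨L', hfin, hL'⟩ := TensorProduct.exists_finite_submodule_left_of_setFinite {z} (Set.finite_singleton z)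
  obtain ⟨z', hz'⟩ := LinearMap.mem_range.1 (hL' rfl)
  haveI := hfin
  obtain ⟨w, hw⟩ := (key ⊥ L' bot_le i z').1 (by
    refine Module.Flat.rTensor_preserves_injective_linearMap (M := Q i) L'.subtype L'.subtype_injective ?_
    rw [map_zero, ← comm_rTensor, hz', hz])
  exact ⟨L'.subtype.rTensor _ w, by rw [comm_rTensor, hw, hz']⟩

end GrothLib.FibreExact19
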