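import Groth.Agent.Lib.FibreExact19.Basic

/-!
# Quasi-isomorphisms of complexes of flat modules can be tested on residue fields
-/

universe u

open CategoryTheory TensorProduct

namespace GrothLib.FibreExact19

variable {R : Type u} [CommRing R]

section ShortComplex

variable {S S' : ShortComplex (ModuleCat.{u} R)} (ψ : S ⟶ S')

theorem exists_cycle (S : ShortComplex (ModuleCat.{u} R)) (z : S.X₂) (hz : S.g z = 0) :
    ∃ c : S.cycles, S.iCycles c = z :=
  ⟨S.moduleCatCyclesIso.inv (⟨z, hz⟩ : LinearMap.ker S.g.hom),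
    (S.moduleCatCyclesIso_inv_iCycles_apply (⟨z, hz⟩ : LinearMap.ker S.g.hom)).trans rfl⟩

theorem homologyπ_eq_zero_iff (S : ShortComplex (ModuleCat.{u} R)) (c : S.cycles) :
    S.homologyπ c = 0 ↔ S.iCycles c ∈ LinearMap.range S.f.hom := by
  rw [← (S.moduleCatHomologyIso.toLinearEquiv).map_eq_zero_iff]
  show S.moduleCatHomologyIso.hom (S.homologyπ c) = 0 ↔ _
  rw [ShortComplex.π_moduleCatCyclesIso_hom_apply, ← S.moduleCatCyclesIso_hom_i_apply c]
  generalize S.moduleCatCyclesIso.hom c = k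
  refine (Submodule.Quotient.mk_eq_zero (LinearMap.range S.moduleCatToCycles) (x := k)).trans ?_
  constructor
  · rintro ⟨w, rfl⟩; exact ⟨w, rfl⟩
  · rintro ⟨w, hw⟩; exact ⟨w, Subtype.ext hw⟩

theorem exists_of_quasiIso [hψ : ShortComplex.QuasiIso ψ] (y : S'.X₂) (hy : S'.g y = 0) :
    ∃ x, S.g x = 0 ∧ ∃ w, ψ.τ₂ x + S'.f w = y := by
  obtain ⟨c', hc'⟩ := exists_cycle S' y hy
  haveI := hψ.isIso
  obtain ⟨h, hh⟩ := ((ModuleCat.epi_iff_surjective (ShortComplex.homologyMap ψ)).1 inferInstance) (S'.homologyπ c')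
  obtain ⟨c, rfl⟩ := ((ModuleCat.epi_iff_surjective S.homologyπ).1 inferInstance) h
  have h2 : S'.homologyπ (ShortComplex.cyclesMap ψ c) = S'.homologyπ c' := by
    rw [← hh, ← ConcreteCategory.comp_apply, ← ConcreteCategory.comp_apply, ShortComplex.homologyπ_naturality]
  have h3 : S'.homologyπ (c' - ShortComplex.cyclesMap ψ c) = 0 := by rw [map_sub, h2, sub_self]
  obtain ⟨w, hw⟩ := (homologyπ_eq_zero_iff S' _).1 h3
  refine ⟨S.iCycles c, ?_, w, ?_⟩
  · rw [← ConcreteCategory.comp_apply, S.iCycles_g]; rfl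
  · have h4 : S'.iCycles (ShortComplex.cyclesMap ψ c) = ψ.τ₂ (S.iCycles c) := by
      rw [← ConcreteCategory.comp_apply, ShortComplex.cyclesMap_i, ConcreteCategory.comp_apply]
    rw [map_sub, h4, hc'] at hw
    change S'.f w = y - ψ.τ₂ (S.iCycles c) at hw
    rw [hw, add_sub_cancel]

theorem mem_range_of_quasiIso [hψ : ShortComplex.QuasiIso ψ] (x : S.X₂) (hx : S.g x = 0)
    (h : ψ.τ₂ x ∈ LinearMap.range S'.f.hom) : ∃ w, S.f w = x := by
  obtain ⟨c, rfl⟩ := exists_cycle S x hx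
  haveI := hψ.isIso
  have h1 : S'.homologyπ (ShortComplex.cyclesMap ψ c) = 0 := by
    rw [homologyπ_eq_zero_iff, ← ConcreteCategory.comp_apply, ShortComplex.cyclesMap_i,
      ConcreteCategory.comp_apply]
    exact h
  have h2 : S.homologyπ c = 0 := by
    apply (ModuleCat.mono_iff_injective (ShortComplex.homologyMap ψ)).1 inferInstance
    rw [map_zero, ← ConcreteCategory.comp_apply, ShortComplex.homologyπ_naturality,
      ConcreteCategory.comp_apply, h1]
  exact (homologyπ_eq_zero_iff S c).1 h2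

end ShortComplex

/-- Shift a sequence of modules up by one. -/
def Sh (X : ℕ → ModuleCat.{u} R) : ℕ → ModuleCat.{u} R
  | 0 => ModuleCat.of R PUnit
  | k + 1 => X k

/-- Shift a differential up by one. -/
def shd {X : ℕ → ModuleCat.{u} R} (d : ∀ k, X (k + 1) →ₗ[R] X k) :
    ∀ k, Sh X (k + 1) →ₗ[R] Sh X k
  | 0 => 0
  | k + 1 => d k

variable {X Y : ℕ → ModuleCat.{u} R}

/-- A chain map, shifted. -/
def shf (φ : ∀ k, X k →ₗ[R] Y k) : ∀ k, Sh (Sh X) (k + 1) →ₗ[R] Sh Y k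
  | 0 => 0
  | k + 1 => φ k

/-- Terms of the padded cone. -/
abbrev ConeX (X Y : ℕ → ModuleCat.{u} R) (k : ℕ) : Type u := Sh (Sh X) k × Sh Y k

variable (dX : ∀ k, X (k + 1) →ₗ[R] X k) (dY : ∀ k, Y (k + 1) →ₗ[R] Y k) (φ : ∀ k, X k →ₗ[R] Y k)

/-- Differential of the padded cone. -/
def coneD (k : ℕ) : ConeX X Y (k + 1) →ₗ[R] ConeX X Y k :=
  (-(shd (shd dX) k) ∘ₗ LinearMap.fst R _ _).prod
    (shf φ k ∘ₗ LinearMap.fst R _ _ + shd dY k ∘ₗ LinearMap.snd R _ _)

theorem shd_comp {X : ℕ → ModuleCat.{u} R} {d : ∀ k, X (k + 1) →ₗ[R] X k}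
    (h : ∀ k, d k ∘ₗ d (k + 1) = 0) : ∀ k, shd d k ∘ₗ shd d (k + 1) = 0
  | 0 => LinearMap.zero_comp _
  | k + 1 => h k

instance flat_sh [∀ k, Module.Flat R (X k)] : ∀ k, Module.Flat R (Sh X k)
  | 0 => (inferInstance : Module.Flat R PUnit.{u + 1})
  | k + 1 => (inferInstance : Module.Flat R (X k))

theorem flat_prod {M N : Type u} [AddCommGroup M] [Module R M] [AddCommGroup N]
    [Module R N] [Module.Flat R M] [Module.Flat R N] : Module.Flat R (M × N) := by
  refine Module.Flat.iff_rTensor_injective'.mpr fun I => ?_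
  let e := TensorProduct.prodRight R R I M N
  let e' := TensorProduct.prodRight R R R M N
  have key : ∀ z, e' (I.subtype.rTensor (M × N) z) =
      (I.subtype.rTensor M (e z).1, I.subtype.rTensor N (e z).2) := by
    intro z
    induction z with
    | zero => simp only [map_zero, Prod.fst_zero, Prod.snd_zero]; rfl
    | tmul a p => simp [e, e']
    | add a b ha hb => simp only [map_add, Prod.fst_add, Prod.snd_add, ha, hb, Prod.mk_add_mk]
  intro x y hxy
  have h := congrArg e' hxy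
  rw [key, key, Prod.mk.injEq] at h
  exact e.injective (Prod.ext
    (Module.Flat.rTensor_preserves_injective_linearMap _ I.subtype_injective h.1)
    (Module.Flat.rTensor_preserves_injective_linearMap _ I.subtype_injective h.2))

theorem flat_cone [∀ k, Module.Flat R (X k)] [∀ k, Module.Flat R (Y k)] (k : ℕ) :
    Module.Flat R (ConeX X Y k) :=
  haveI h1 : Module.Flat R (Sh (Sh X) k) := flat_sh k
  haveI h2 : Module.Flat R (Sh Y k) := flat_sh k
  flat_prod

theorem subsingleton_sh_zero : Subsingleton (Sh X 0) := (inferInstance : Subsingleton PUnit.{u + 1})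

theorem shf_comm (hφ : ∀ k, φ k ∘ₗ dX k = dY k ∘ₗ φ (k + 1)) :
    ∀ k, shf φ k ∘ₗ shd (shd dX) (k + 1) = shd dY k ∘ₗ shf φ (k + 1)
  | 0 => (LinearMap.zero_comp _).trans (LinearMap.zero_comp _).symm
  | k + 1 => hφ k

theorem coneD_comp (hX : ∀ k, dX k ∘ₗ dX (k + 1) = 0) (hY : ∀ k, dY k ∘ₗ dY (k + 1) = 0)
    (hφ : ∀ k, φ k ∘ₗ dX k = dY k ∘ₗ φ (k + 1)) (k : ℕ) :
    coneD dX dY φ k ∘ₗ coneD dX dY φ (k + 1) = 0 := by
  apply LinearMap.ext
  rintro ⟨x, y⟩
  have h1 := LinearMap.congr_fun (shd_comp (shd_comp hX) k) x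
  have h2 := LinearMap.congr_fun (shd_comp hY k) y
  have h3 := LinearMap.congr_fun (shf_comm dX dY φ hφ k) x
  simp only [LinearMap.comp_apply, LinearMap.zero_apply] at h1 h2 h3
  refine Prod.ext ?_ ?_
  · simp [coneD, h1]
  · simp [coneD, h2, h3]

/-- `L ⊗ φ` is a quasi-isomorphism, elementwise. -/
structure QisAt (L : Type u) [AddCommGroup L] [Module R L] : Prop where
  inj : ∀ k (x : L ⊗[R] Sh X (k + 1)), (shd dX k).lTensor L x = 0 →
    (∃ w, (dY k).lTensor L w = (φ k).lTensor L x) → ∃ v, (dX k).lTensor L v = x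
  surj : ∀ k (y : L ⊗[R] Sh Y (k + 1)), (shd dY k).lTensor L y = 0 →
    ∃ x : L ⊗[R] Sh X (k + 1), (shd dX k).lTensor L x = 0 ∧
      ∃ w, (φ k).lTensor L x + (dY k).lTensor L w = y

variable {dX dY φ}

theorem exAt_of_qisAt (hX : ∀ k, dX k ∘ₗ dX (k + 1) = 0) (hY : ∀ k, dY k ∘ₗ dY (k + 1) = 0)
    (hφ : ∀ k, φ k ∘ₗ dX k = dY k ∘ₗ φ (k + 1)) {L : Type u} [AddCommGroup L] [Module R L]
    (h : QisAt dX dY φ L) : ExAt (coneD dX dY φ) L := by
  intro k z
  refine ⟨fun hz => ?_, fun ⟨w, hw⟩ => hw ▸ lTensor_zero (coneD_comp dX dY φ hX hY hφ) L k w⟩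
  let e := fun k => TensorProduct.prodRight R R L (Sh (Sh X) k) (Sh Y k)
  have hd : ∀ (j : ℕ) (a : L ⊗[R] ConeX X Y (j + 1)), e j ((coneD dX dY φ j).lTensor L a) =
      (-(shd (shd dX) j).lTensor L (e (j + 1) a).1,
        (shf φ j).lTensor L (e (j + 1) a).1 + (shd dY j).lTensor L (e (j + 1) a).2) := by
    intro j a
    induction a using TensorProduct.induction_on with
    | zero =>
      simp
      rfl
    | tmul l p =>
      obtain ⟨p, q⟩ := p
      simp [e, coneD, TensorProduct.tmul_add, TensorProduct.tmul_neg]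
    | add a b ha hb =>
      simp only [map_add, ha, hb, Prod.fst_add, Prod.snd_add, Prod.mk_add_mk]
      refine Prod.ext ?_ ?_ <;> · dsimp only; abel
  have hz1 := hd k z
  rw [hz, map_zero] at hz1
  obtain ⟨x, y⟩ : { a // a = (e (k + 1) z).1 } × { b // b = (e (k + 1) z).2 } := (⟨_, rfl⟩, ⟨_, rfl⟩)
  obtain ⟨x, hx⟩ := x
  obtain ⟨y, hy⟩ := y
  rw [← hx, ← hy, Prod.ext_iff] at hz1
  obtain ⟨hx0, hy0⟩ := hz1
  dsimp only [Prod.fst_zero, Prod.snd_zero] at hx0 hy0
  rw [eq_comm, neg_eq_zero] at hx0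
  suffices hsuff : ∃ (a : L ⊗[R] Sh (Sh X) (k + 1 + 1)) (b : L ⊗[R] Sh Y (k + 1 + 1)),
      -(shd (shd dX) (k + 1)).lTensor L a = x ∧
        (shf φ (k + 1)).lTensor L a + (shd dY (k + 1)).lTensor L b = y by
    obtain ⟨a, b, ha, hb⟩ := hsuff
    refine ⟨(e (k + 1 + 1)).symm (a, b), (e (k + 1)).injective ?_⟩
    rw [hd, LinearEquiv.apply_symm_apply, ha, hb, hx, hy]
  cases k with
  | zero =>
    -- `x` lives in a zero module
    have hx1 : x = 0 := by
      haveI : Subsingleton (Sh (Sh X) (0 + 1)) := subsingleton_sh_zero (X := X)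
      have hall : ∀ w : L ⊗[R] Sh (Sh X) (0 + 1), w = 0 := fun w => by
        induction w using TensorProduct.induction_on with
        | zero => rfl
        | tmul l p => rw [Subsingleton.elim p 0, tmul_zero]
        | add p q hp hq => rw [hp, hq, add_zero]
      exact hall x
    have hy1 : (shd dY 0).lTensor L y = 0 := by simp [shd]
    obtain ⟨a, ha, w, hw⟩ := h.surj 0 y hy1
    exact ⟨a, w, by rw [hx1, neg_eq_zero]; exact ha, hw⟩
  | succ k =>
    -- cycle `(x, y)`: first kill `x`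
    change L ⊗[R] Y (k + 1) at y
    change L ⊗[R] X k at x
    have hφx : ∃ w, (dY k).lTensor L w = (φ k).lTensor L x := by
      refine ⟨-y, ?_⟩
      rw [map_neg, neg_eq_iff_add_eq_zero, add_comm]
      exact hy0.symm
    obtain ⟨v, hv⟩ := h.inj k x hx0 hφx
    have hcyc : (shd dY (k + 1)).lTensor L (y + (φ (k + 1)).lTensor L v) = 0 := by
      show (dY k).lTensor L (y + (φ (k + 1)).lTensor L v) = 0
      rw [map_add, ← LinearMap.lTensor_comp_apply L (dY k) (φ (k + 1)), ← hφ k, LinearMap.lTensor_comp_apply, hv, add_comm]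
      exact hy0.symm
    obtain ⟨a, ha, w, hw⟩ := h.surj (k + 1) _ hcyc
    change L ⊗[R] X (k + 1) at a
    refine ⟨(a - v : L ⊗[R] X (k + 1)), w, ?_, ?_⟩
    · show -(dX k).lTensor L (a - v) = x
      have ha' : (dX k).lTensor L a = 0 := ha
      rw [map_sub, ha', hv, zero_sub, neg_neg]
    · show (φ (k + 1)).lTensor L (a - v) + (dY (k + 1)).lTensor L w = y
      rw [map_sub, sub_add_eq_add_sub, sub_eq_iff_eq_add]
      exact hw

theorem qisAt_of_quasiIso {P P' : ChainComplex (ModuleCat.{u} R) ℕ} (ψ : P ⟶ P')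
    (L : ModuleCat.{u} R)
    (h : ∀ i, QuasiIsoAt (((MonoidalCategory.tensoringLeft (ModuleCat.{u} R)).obj L).mapHomologicalComplex
      (ComplexShape.down ℕ) |>.map ψ) i) :
    QisAt (X := fun k => P.X k) (Y := fun k => P'.X k) (fun k => (P.d (k + 1) k).hom)
      (fun k => (P'.d (k + 1) k).hom) (fun k => (ψ.f k).hom) L := by
  let F := ((MonoidalCategory.tensoringLeft (ModuleCat.{u} R)).obj L).mapHomologicalComplex (ComplexShape.down ℕ)
  have h0 := (quasiIsoAt_iff' (F.map ψ) 1 0 0 (by simp) (by simp)).1 (h 0)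
  have hs := fun k => (quasiIsoAt_iff' (F.map ψ) (k + 2) (k + 1) k (by simp) (by simp)).1 (h (k + 1))
  have hd0 : ∀ (K : ChainComplex (ModuleCat.{u} R) ℕ) (z : ((F.obj K).sc' 1 0 0).X₂),
      ((F.obj K).sc' 1 0 0).g z = 0 := fun K z => by
    show ((F.obj K).d 0 0).hom z = 0
    rw [(F.obj K).shape 0 0 (by simp)]
    exact LinearMap.zero_apply z
  constructor
  · rintro (_ | k) x hx ⟨w, hw⟩
    · exact mem_range_of_quasiIso (hψ := h0) _ x (hd0 P x) ⟨w, hw⟩
    · exact mem_range_of_quasiIso (hψ := hs k) _ x hx ⟨w, hw⟩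
  · rintro (_ | k) y hy
    · obtain ⟨x, -, w, hw⟩ := exists_of_quasiIso (hψ := h0) _ y (hd0 P' y)
      exact ⟨x, by simp [shd], w, hw⟩
    · obtain ⟨x, hx, w, hw⟩ := exists_of_quasiIso (hψ := hs k) _ y hy
      exact ⟨x, hx, w, hw⟩

end GrothLib.FibreExact19
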